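import Groth.Agent.Cor85.Global

/-!
# Points inverting the coroot
-/

set_option autoImplicit false
universe u

open CategoryTheory MonoidalCategory CartesianMonoidalCategory MonObj GrpObj AlgebraicGeometry Limits
open Groth.Agent.RedPts

noncomputable section

namespace Groth.Agent.Cor85

attribute [local instance] Sys.hi Sys.hα Sys.hav Sys.hp Sys.hm

variable {S : Scheme.{u}} {G T : Over S} [GrpObj G] [GrpObj T] (D : Sys S G T)

lemma conj_coroot {X : Over S} (v : (Γ(X.left, ⊤))ˣ) :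
    (D.rk X).w 1 * (D.rk X).h v * ((D.rk X).w 1)⁻¹ = ((D.rk X).h v)⁻¹ := by
  rw [Rk1.h_apply, Rk1.w_conj_it, (D.rk X).χav, pow_two, map_mul, ← Rk1.h_apply, _root_.mul_inv_rev,
    inv_mul_cancel_right]

lemma toUnit_w (X : Over S) : toUnit X ≫ (D.rk (𝟙_ (Over S))).w 1 = (D.rk X).w 1 := by
  rw [D.comp_w, map_one]

/-- A point inverting a multiple of the coroot is the Weyl point times a torus point. -/
theorem exists_torus_of_inverts (hG : Red.IsReductive G) (hT : Red.IsTorus T) [Mono D.i]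
    [IsOpenImmersion (cell D).left] (n : ℤ) (hn : n ≠ 0) (w : 𝟙_ (Over S) ⟶ G)
    (hw : ∀ (X : Over S) (z : X ⟶ Red.Gm S),
      (toUnit X ≫ w) * (((z ≫ D.av) ^ n) ≫ D.i) * (toUnit X ≫ w)⁻¹ = ((((z ≫ D.av) ^ n) ≫ D.i))⁻¹) :
    ∃ t₀ : 𝟙_ (Over S) ⟶ T, w = (D.rk (𝟙_ (Over S))).w 1 * (t₀ ≫ D.i) := by
  obtain ⟨t₀, ht₀⟩ := (centralizer D hG hT n hn (((D.rk (𝟙_ (Over S))).w 1)⁻¹ * w)).1 (by
    intro X' y z
    have e := hw X' z
    rw [coroot_zpow_eq] at e ⊢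
    rw [toUnit_unique y (toUnit X'), MonObj.comp_mul, GrpObj.comp_inv, toUnit_w]
    have e' := conj_coroot D (gmU z ^ n)
    set A := (D.rk X').w 1
    set C := (D.rk X').h (gmU z ^ n)
    set W := toUnit X' ≫ w
    calc A⁻¹ * W * C = A⁻¹ * (W * C * W⁻¹) * W := by group
      _ = A⁻¹ * (A * C * A⁻¹) * W := by rw [e, e']
      _ = C * (A⁻¹ * W) := by group)
  exact ⟨t₀, by rw [ht₀, mul_inv_cancel_left]⟩

end Groth.Agent.Cor85
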