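import Groth.Agent.Cor85.Line

/-!
# Homomorphisms from the additive group of given torus weight
-/

set_option autoImplicit false
universe u

open CategoryTheory MonoidalCategory CartesianMonoidalCategory MonObj GrpObj AlgebraicGeometry Limits
open Groth.Agent.RedPts

noncomputable section

namespace Groth.Agent.Cor85.Weight

attribute [local instance] Cel.hi Cel.hα Cel.hp Cel.hm

variable {S : Scheme.{u}} {G T : Over S} [GrpObj G] [GrpObj T]

/-- A homomorphism from `𝔾_a` on which `j` acts with weight. -/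
structure Wtd (C : Cel S G T) (Q : Over S) [GrpObj Q] (j : Q ⟶ T) (q : ℕ) (p : Red.Ga S ⟶ G) : Prop where
  hom : IsMonHom p
  jhom : IsMonHom j
  conj : ∀ (X : Over S) (t : X ⟶ Q) (x : Γ(X.left, ⊤)),
    gaPt ((gmU (t ≫ j ≫ C.α) : Γ(X.left, ⊤)) * x) ≫ p =
      (((t ≫ j) ^ q) ≫ C.i) * (gaPt x ≫ p) * (((t ≫ j) ^ q) ≫ C.i)⁻¹
  pts : ∀ (s : S) (r : ℕ), 0 < r → ∃ t : Over.mk (Red.geomPt s) ⟶ Q, Red.gmFn (t ≫ j ≫ C.α) ^ r ≠ 1
  cover : ∀ (X : Over S) (r : ℕ), 0 < r → ∃ (Y : Over S) (π : Y ⟶ X) (_ : Epi π) (t : Y ⟶ Q),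
    IsUnit (Red.gmFn (t ≫ j ≫ C.α) ^ r - 1)

variable {C : Cel S G T} {Q : Over S} [GrpObj Q] {j : Q ⟶ T} {q : ℕ} {p : Red.Ga S ⟶ G}

lemma gmU_pow {X : Over S} (s : X ⟶ T) (n : ℕ) : gmU ((s ^ n) ≫ C.α) = gmU (s ≫ C.α) ^ n := by
  have := C.hα
  refine Units.ext ?_
  rw [Units.val_pow_eq_pow_val, gmU_val, gmU_val]
  induction n with
  | zero =>
    rw [pow_zero, pow_zero]
    have e := gm_mul (((1 : X ⟶ T)) ≫ C.α) ((1 : X ⟶ T) ≫ C.α)
    rw [← MonObj.mul_comp, _root_.mul_one] at e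
    exact ((gm_isUnit _).mul_eq_left).1 e.symm
  | succ n ih => rw [pow_succ, pow_succ, @MonObj.mul_comp _ _ _ _ _ _ _ _ _ _ C.α C.hα, gm_mul, ih]

variable (hw : Wtd C Q j q p)
include hw

lemma p_zero {X : Over S} : gaPt (0 : Γ(X.left, ⊤)) ≫ p = 1 := by
  have := hw.hom
  exact Cel.gaPt_zero_comp p

/-- The image of the homomorphism lies in the cell. -/
theorem lands {X : Over S} (x : X ⟶ Red.Ga S) (w : X.left) : (x ≫ p).left w ∈ Set.range C.map.left := by
  classical
  let K := AlgebraicClosure (X.left.residueField w)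
  let g₁ : Spec (CommRingCat.of K) ⟶ Spec (S.residueField (X.hom w)) :=
    Spec.map (CommRingCat.ofHom (algebraMap (X.left.residueField w) K)) ≫ Spec.map (X.hom.residueFieldMap w)
  let b : Spec (CommRingCat.of K) ⟶ S := g₁ ≫ S.fromSpecResidueField (X.hom w)
  have hab : Red.geomPt w ≫ X.hom = b := by
    simp only [b, g₁, Red.geomPt, Category.assoc, Scheme.Hom.SpecMap_residueFieldMap_fromSpecResidueField]
  let P : Over S := obj b
  let w₀ : P ⟶ X := Over.homMk (Red.geomPt w) hab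
  let cp : P.left := (IsLocalRing.closedPoint K : Spec (CommRingCat.of K))
  have hw₀ : w₀.left cp = w := by
    have key : ∀ {Z : Scheme.{u}} (h : Z ⟶ Spec (X.left.residueField w)) (z : Z),
        (h ≫ X.left.fromSpecResidueField w) z = w := fun h z => by
      rw [Scheme.Hom.comp_apply]; exact Scheme.fromSpecResidueField_apply w _
    exact key (Spec.map (CommRingCat.ofHom (algebraMap (X.left.residueField w) K))) cp
  obtain ⟨a, ha⟩ := (fn_bijective (CommRingCat.of K)).2 (Red.gaFn (w₀ ≫ x))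
  let F : K → (P ⟶ G) := fun k => gaPt (fn (CommRingCat.of K) k) ≫ p
  suffices h : (F a).left cp ∈ Set.range C.map.left by
    have e : F a = w₀ ≫ x ≫ p := by
      rw [← Category.assoc, ← gaPt_gaFn (w₀ ≫ x), ← ha]
    rw [e] at h
    change (x ≫ p).left (w₀.left cp) ∈ _ at h
    rwa [hw₀] at h
  by_contra hnot
  let ℓ : obj (lineHom b) ⟶ G := gaPt (fn (CommRingCat.of (Polynomial K)) Polynomial.X) ≫ p
  have hF : ∀ k : K, F k = evPt b k ≫ ℓ := fun k => by
    rw [← Category.assoc, evPt, gaPt_mor]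
    simp [F]
  let Z : Set (Spec (CommRingCat.of (Polynomial K))) := ℓ.left ⁻¹' (Set.range C.map.left)ᶜ
  have hZ : IsClosed Z := by
    have := C.open_cell
    exact C.map.left.isOpenEmbedding.isOpen_range.isClosed_compl.preimage ℓ.left.continuous
  have hev : ∀ k : K, (F k).left cp ∉ Set.range C.map.left ↔ (evPt b k).left cp ∈ Z := fun k => by
    rw [hF]; rfl
  have hstep : ∀ (t : P ⟶ Q) (u k : K), (gmU (t ≫ j ≫ C.α) : Γ(P.left, ⊤)) = fn (CommRingCat.of K) u →
      (F k).left cp ∉ Set.range C.map.left → (F (u * k)).left cp ∉ Set.range C.map.left := by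
    intro t u k hu hk hin
    apply hk
    obtain ⟨y, τ, z, hyz⟩ := C.exists_pt (F (u * k)) (by
      rintro _ ⟨v, rfl⟩
      rw [show v = cp from Subsingleton.elim (α := PrimeSpectrum K) _ _]
      exact hin)
    have e : F (u * k) = (((t ≫ j) ^ q) ≫ C.i) * F k * (((t ≫ j) ^ q) ≫ C.i)⁻¹ := by
      simp only [F, map_mul]
      rw [← hu]
      exact hw.conj P t _
    have e' : F k = (((((t ≫ j) ^ q))⁻¹) ≫ C.i) * C.pt y τ z * (((((t ≫ j) ^ q))⁻¹) ≫ C.i)⁻¹ := by
      rw [← hyz, e, GrpObj.inv_comp]; group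
    rw [e', Cel.conj_pt]
    exact C.pt_mem _ _ _ _
  have hinf : {k : K | (F k).left cp ∉ Set.range C.map.left}.Infinite := by
    intro hfin
    have ha0 : a ≠ 0 := by
      rintro rfl
      apply hnot
      have h1 : F 0 = C.pt 0 1 0 := by simp only [F, map_zero]; rw [p_zero hw, Cel.pt_one]
      rw [h1]
      exact C.pt_mem _ _ _ _
    let N := hfin.toFinset.card
    obtain ⟨t₀, ht₀⟩ := hw.pts (X.hom w) (Nat.factorial (N + 1)) (Nat.factorial_pos _)
    let s := X.hom w
    let K₀ := AlgebraicClosure (S.residueField s)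
    letI : Algebra (S.residueField s) K :=
      ((algebraMap (X.left.residueField w) K).comp (X.hom.residueFieldMap w).hom).toAlgebra
    let σ : K₀ →ₐ[S.residueField s] K := IsAlgClosed.lift
    let m : P ⟶ Over.mk (Red.geomPt s) := Over.homMk (Spec.map (CommRingCat.ofHom σ.toRingHom)) (by
      show Spec.map _ ≫ Spec.map _ ≫ _ = _
      rw [← Category.assoc, ← Spec.map_comp]
      show _ = (Spec.map _ ≫ Spec.map _) ≫ _
      rw [← Spec.map_comp]
      congr 2
      ext r
      exact σ.commutes r)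
    obtain ⟨u₀, hu₀⟩ := (fn_bijective (CommRingCat.of K₀)).2 (Red.gmFn (t₀ ≫ j ≫ C.α))
    have hu₀1 : u₀ ^ Nat.factorial (N + 1) ≠ 1 := fun h => ht₀ (by
      rw [← hu₀, ← map_pow, h, map_one])
    have hval : (gmU ((m ≫ t₀) ≫ j ≫ C.α) : Γ(P.left, ⊤)) = fn (CommRingCat.of K) (σ u₀) := by
      rw [gmU_val, Category.assoc, gm_comp, ← hu₀]
      exact (congr($(Scheme.ΓSpecIso_inv_naturality (CommRingCat.ofHom σ.toRingHom)) u₀)).symm
    have horb : ∀ n : ℕ, (F (σ u₀ ^ n * a)).left cp ∉ Set.range C.map.left := by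
      intro n
      induction n with
      | zero => rwa [pow_zero, _root_.one_mul]
      | succ n ih =>
        rw [pow_succ', _root_.mul_assoc]
        exact hstep (m ≫ t₀) _ _ hval ih
    have hu0 : σ u₀ ≠ 0 := by
      intro h
      have := (gmU ((m ≫ t₀) ≫ j ≫ C.α)).isUnit
      rw [hval, h, map_zero] at this
      exact not_isUnit_zero (M₀ := K) (by
        have := this.map (Scheme.ΓSpecIso (CommRingCat.of K)).hom.hom
        rwa [map_zero] at this)
    have hcard : (Finset.range (N + 1)).card ≤ N := by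
      refine Finset.card_le_card_of_injOn (fun n => σ u₀ ^ n * a) (fun n _ => hfin.mem_toFinset.2 (horb n)) ?_
      intro n hn m hm hnm
      simp only [Finset.coe_range, Set.mem_Iio] at hn hm
      have hpow : σ u₀ ^ n = σ u₀ ^ m := mul_right_cancel₀ ha0 hnm
      by_contra hne
      clear hnm
      apply hu₀1
      wlog hlt : n < m generalizing n m
      · exact this hm hn hpow.symm (Ne.symm hne) (by omega)
      have h1 : σ u₀ ^ (m - n) = 1 :=
        mul_left_cancel₀ (pow_ne_zero n hu0) (by rw [← pow_add, Nat.add_sub_cancel' hlt.le, _root_.mul_one, hpow])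
      rw [← map_pow, ← map_one σ] at h1
      obtain ⟨d, hd⟩ := Nat.dvd_factorial (show 0 < m - n by omega) (show m - n ≤ N + 1 by omega)
      rw [hd, pow_mul, σ.toRingHom.injective h1, one_pow]
    simp at hcard
  obtain ⟨I, hI⟩ := (PrimeSpectrum.isClosed_iff_zeroLocus_ideal Z).1 hZ
  have hI0 : ∀ f ∈ I, f = 0 := by
    intro f hf
    refine Polynomial.eq_zero_of_infinite_isRoot f (hinf.mono fun k hk => ?_)
    have hk' : (evPt b k).left cp ∈ PrimeSpectrum.zeroLocus (I : Set (Polynomial K)) := hI ▸ (hev k).1 hk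
    have h2 := hk' hf
    change (CommRingCat.ofHom (Polynomial.evalRingHom k)) f ∈ IsLocalRing.maximalIdeal K at h2
    rw [IsLocalRing.maximalIdeal_eq_bot] at h2
    exact h2
  have h0 : (evPt b (0 : K)).left cp ∈ Z := by
    rw [hI]
    exact fun f hf => (hI0 f hf) ▸ Submodule.zero_mem _
  apply (hev 0).2 h0
  have h1 : F 0 = C.pt 0 1 0 := by simp only [F, map_zero]; rw [p_zero hw, Cel.pt_one]
  rw [h1]
  exact C.pt_mem _ _ _ _

/-- Coordinates of the image. -/
theorem exists_coord {X : Over S} (x : X ⟶ Red.Ga S) :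
    ∃ y t z, x ≫ p = C.pt y t z := C.exists_pt _ (by rintro _ ⟨w, rfl⟩; exact lands hw x w)

/-- A polynomial scaled by weight is a monomial. -/
lemma coeff_eq_zero {R : CommRingCat.{u}} (b : Spec R ⟶ S) (P : Polynomial R) (e : ℕ) (l : ℕ)
    (h : ∀ (R' : CommRingCat.{u}) (b' : Spec R' ⟶ S) (φ : R ⟶ R') (_ : Spec.map φ ≫ b = b') (t : obj b' ⟶ Q) (v : R'),
      fn R' v = Red.gmFn (t ≫ j ≫ C.α) →
      Polynomial.C (v ^ l) * (P.map φ.hom).comp (Polynomial.C v * Polynomial.X) = Polynomial.C (v ^ e) * P.map φ.hom)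
    {i : ℕ} (hi : l + i ≠ e) : P.coeff i = 0 := by
  obtain ⟨r, hr, hsplit⟩ : ∃ r, 0 < r ∧ (l + i = e + r ∨ e = l + i + r) := by
    rcases Nat.lt_or_gt_of_ne hi with h1 | h1
    · exact ⟨e - (l + i), by omega, Or.inr (by omega)⟩
    · exact ⟨l + i - e, by omega, Or.inl (by omega)⟩
  obtain ⟨Y, π, hπ, t, ht⟩ := hw.cover (obj b) r hr
  have key : π.left.appTop (fn R (P.coeff i)) = 0 := by
    refine Y.left.sheaf.eq_of_locally_eq' (fun V : Y.left.affineOpens => V.1) ⊤ (fun V => homOfLE le_top)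
      (fun y _ => by
        obtain ⟨V, hV, hy, -⟩ := exists_isAffineOpen_mem_and_subset (x := y) (U := ⊤) trivial
        exact TopologicalSpace.Opens.mem_iSup.2 ⟨⟨V, hV⟩, hy⟩) _ _ fun V => ?_
    refine Eq.trans ?_ (map_zero (Y.left.presheaf.map (homOfLE le_top : V.1 ⟶ ⊤).op).hom).symm
    show Y.left.presheaf.map (homOfLE le_top : V.1 ⟶ ⊤).op (π.left.appTop (fn R (P.coeff i))) = 0
    let R' : CommRingCat.{u} := Γ(Y.left, V.1)
    let b' : Spec R' ⟶ S := V.2.fromSpec ≫ Y.hom
    let ρ : obj b' ⟶ Y := Over.homMk V.2.fromSpec rfl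
    let φ : R ⟶ R' := (Scheme.ΓSpecIso R).inv ≫ π.left.appTop ≫ Y.left.presheaf.map (homOfLE le_top).op
    have hρ : ∀ z : Γ(Y.left, ⊤), ρ.left.appTop z = fn R' (Y.left.presheaf.map (homOfLE le_top : V.1 ⟶ ⊤).op z) :=
      fun z => by
        have e : V.2.fromSpec.appTop = Y.left.presheaf.map (homOfLE le_top : V.1 ⟶ ⊤).op ≫ (Scheme.ΓSpecIso R').inv := by
          rw [Scheme.Hom.appTop, IsAffineOpen.fromSpec_app_of_le V.2 ⊤ le_top]
          refine congrArg (_ ≫ ·) ?_
          erw [CategoryTheory.Functor.map_id, Category.comp_id]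
        exact congr($e z)
    have hb : Spec.map φ ≫ b = b' := by
      have e1 : Spec.map φ = V.2.fromSpec ≫ π.left := by
        apply ext_of_isAffine
        ext z
        rw [Scheme.Hom.comp_appTop]
        show (Spec.map φ).appTop z = ρ.left.appTop (π.left.appTop z)
        rw [hρ]
        obtain ⟨z, rfl⟩ := (fn_bijective R).2 z
        exact (congr($(Scheme.ΓSpecIso_inv_naturality φ) z)).symm
      rw [e1, Category.assoc]
      exact congrArg (V.2.fromSpec ≫ ·) (Over.w π)
    obtain ⟨v, hv⟩ := (fn_bijective R').2 (Red.gmFn ((ρ ≫ t) ≫ j ≫ C.α))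
    have hunit : IsUnit (v ^ r - 1) := by
      have h1 : IsUnit (fn R' (v ^ r - 1)) := by
        rw [map_sub, map_pow, map_one, hv, Category.assoc, gm_comp]
        have := ht.map ρ.left.appTop.hom
        rwa [map_sub, map_pow, map_one] at this
      have := h1.map (Scheme.ΓSpecIso R').hom.hom
      rwa [show (Scheme.ΓSpecIso R').hom.hom (fn R' (v ^ r - 1)) = v ^ r - 1 from
        congr($((Scheme.ΓSpecIso R').inv_hom_id) (v ^ r - 1))] at this
    have hvu : IsUnit v := by
      have h1 : IsUnit (fn R' v) := hv ▸ gm_isUnit _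
      have := h1.map (Scheme.ΓSpecIso R').hom.hom
      rwa [show (Scheme.ΓSpecIso R').hom.hom (fn R' v) = v from congr($((Scheme.ΓSpecIso R').inv_hom_id) v)] at this
    have h2 := congrArg (fun f => Polynomial.coeff f i) (h R' b' φ hb (ρ ≫ t) v hv)
    simp only [Polynomial.coeff_C_mul, Polynomial.comp_C_mul_X_coeff, Polynomial.coeff_map] at h2
    show φ.hom (P.coeff i) = 0
    rcases hsplit with hs | hs
    · refine hunit.mul_right_eq_zero.1 ((hvu.pow e).mul_right_eq_zero.1 ?_)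
      have hp : v ^ l * v ^ i = v ^ e * v ^ r := by rw [← pow_add, ← pow_add, hs]
      linear_combination h2 - hp * φ.hom (P.coeff i)
    · refine hunit.mul_right_eq_zero.1 ((hvu.pow (l + i)).mul_right_eq_zero.1 ?_)
      have hp : v ^ e = v ^ (l + i) * v ^ r := by rw [← pow_add, hs]
      linear_combination -h2 - hp * φ.hom (P.coeff i)
  apply (fn_bijective R).1
  rw [map_zero]
  have e : π ≫ gaPt (fn R (P.coeff i)) = π ≫ gaPt (0 : Γ((obj b).left, ⊤)) := by
    rw [gaPt_comp, gaPt_comp, key, map_zero]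
  have := congrArg Red.gaFn ((cancel_epi π).1 e)
  rwa [gaFn_gaPt, gaFn_gaPt] at this

end Groth.Agent.Cor85.Weight
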