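import Groth.Agent.Borel50.GeomTorus
import Groth.Agent.Borel50.BaseChange
import Groth.Agent.RedPts.RankOne
import Groth.Agent.AbSch51.TorusToProper

/-!
# Centralisers of connected sets of torus points
-/

set_option autoImplicit false
universe u

open CategoryTheory MonoidalCategory CartesianMonoidalCategory MonObj GrpObj AlgebraicGeometry Limits

noncomputable section

namespace Groth.Agent.Cor85

open Groth.Agent.Borel50 Groth.Agent.Borel50.Pts Groth.Agent.Borel50.Lin Groth.Agent.Borel50.Density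

attribute [local instance] ptTop

variable {K : Type u} [Field K] [IsAlgClosed K] {G T : Over (Spec (CommRingCat.of K))} [GrpObj G] [GrpObj T]
  [IsAffine G.left] [Smooth G.hom] [ConnectedSpace G.left]

/-- If the centraliser of a connected group of torus points meets a neighbourhood of the torus only in
the torus, it is the torus. -/
theorem mem_range_of_commute (iT : T ⟶ G) [IsMonHom iT] [Mono iT] (hT : Red.IsTorus T)
    (H : Subgroup (Pt G)) (hH : _root_.IsPreconnected (H : Set (Pt G))) (hle : H ≤ (ptHom iT).range)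
    (U : Set G.left) (hU : IsOpen U)
    (hTU : ∀ x ∈ (ptHom iT).range, pt x ∈ U)
    (hcell : ∀ x ∈ Subgroup.centralizer (H : Set (Pt G)), pt x ∈ U → x ∈ (ptHom iT).range)
    {g : Pt G} (hg : g ∈ Subgroup.centralizer (H : Set (Pt G))) : g ∈ (ptHom iT).range := by
  have := FixedPt.qc_G G
  have := GrpScheme.HomFlat.isReduced_of_smooth G.hom
  obtain ⟨N, ⟨Φ⟩⟩ := exists_rep (G := G)
  have hR := Lin.Torus.isToral_range Φ iT hT
  obtain ⟨T₀, hT₀⟩ := Φ.exists_closure_subgroup H
  have hle₀ : T₀ ≤ (ptHom iT).range := by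
    intro x hx
    have hx' : x ∈ closure (H : Set (Pt G)) := hT₀ ▸ (show x ∈ (T₀ : Set (Pt G)) from hx)
    exact closure_minimal (fun y hy => hle hy) hR.closed hx'
  have htor : Φ.IsToral T₀ := by
    refine ⟨hT₀ ▸ isClosed_closure, hT₀ ▸ hH.closure, ?_⟩
    obtain ⟨P, Q, hPQ, hd⟩ := hR.diag
    exact ⟨P, Q, hPQ, fun x hx => hd x (hle₀ hx)⟩
  have hcent : ∀ x ∈ Subgroup.centralizer (H : Set (Pt G)), x ∈ Subgroup.centralizer (T₀ : Set (Pt G)) := by
    intro x hx
    refine Subgroup.mem_centralizer_iff.2 fun y hy => ?_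
    let φ : G ⟶ G := 𝟙 G * (toUnit G ≫ x) * (𝟙 G)⁻¹ * (toUnit G ≫ x)⁻¹
    have hφ : ∀ z : Pt G, z ≫ φ = z * x * z⁻¹ * x⁻¹ := fun z => by
      simp only [φ, MonObj.comp_mul, GrpObj.comp_inv, Category.comp_id, ← Category.assoc]
      rw [toUnit_unique (z ≫ toUnit G) (𝟙 _), Category.id_comp]
    have hcl : IsClosed ((fun z : Pt G => z ≫ φ) ⁻¹' {1}) := (Φ.isClosed_singleton 1).preimage (continuous_comp φ)
    have hy' : y ∈ closure (H : Set (Pt G)) := hT₀ ▸ hy
    have := closure_minimal (fun z hz => show z ≫ φ = 1 by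
      rw [hφ, (Subgroup.mem_centralizer_iff.1 hx z hz)]; group) hcl hy'
    have h1 : y * x * y⁻¹ * x⁻¹ = 1 := (hφ y).symm.trans this
    calc y * x = (y * x * y⁻¹ * x⁻¹) * (x * y) := by group
      _ = x * y := by rw [h1, _root_.one_mul]
  have hpre : _root_.IsPreconnected (Subgroup.centralizer (T₀ : Set (Pt G)) : Set (Pt G)) := by
    rw [Centralizer.centralizer_eq Φ htor]; exact Φ.isPreconnected_centralizerComp _
  let V : Set (Pt G) := pt ⁻¹' U
  have hV : IsOpen V := hU.preimage continuous_induced_dom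
  have hcov : (Subgroup.centralizer (T₀ : Set (Pt G)) : Set (Pt G)) ⊆ V ∪ ((ptHom iT).range : Set (Pt G))ᶜ := by
    intro x hx
    by_cases h : x ∈ (ptHom iT).range
    · exact Or.inl (hTU x h)
    · exact Or.inr h
  by_contra hgn
  have h1T : (1 : Pt G) ∈ (ptHom iT).range := one_mem _
  obtain ⟨x, hxC, hxV, hxn⟩ := hpre V _ hV hR.closed.isOpen_compl hcov
    ⟨1, one_mem _, hTU 1 h1T⟩ ⟨g, hcent g hg, hgn⟩
  exact hxn (hcell x (Subgroup.mem_centralizer_iff.2 fun y hy =>
    Subgroup.mem_centralizer_iff.1 hxC y (hT₀ ▸ subset_closure hy : y ∈ (T₀ : Set (Pt G)))) hxV)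

end Groth.Agent.Cor85
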