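import Groth.Agent.Cor85.Fibre
import Groth.Agent.DiagRig.MultBC
import Groth.Agent.DiagRig.TorusBasic
import Mathlib.Algebra.Polynomial.Laurent

/-!
# The centraliser of a coroot in a rank one system
-/

set_option autoImplicit false
universe u

open CategoryTheory MonoidalCategory CartesianMonoidalCategory MonObj GrpObj AlgebraicGeometry Limits
open Groth.Agent.RedPts

noncomputable section

namespace Groth.Agent.Cor85

attribute [local instance] Borel50.Lin.ptTop
attribute [local instance] Sys.hi Sys.hα Sys.hav Sys.hp Sys.hm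

variable {S : Scheme.{u}} {G T : Over S} [GrpObj G] [GrpObj T] (D : Sys S G T)

/-- The big cell. -/
abbrev cell : (Red.Ga S ⊗ T) ⊗ Red.Ga S ⟶ G := ((D.pm ⊗ₘ D.i) ⊗ₘ D.pp) ≫ (μ[G] ▷ G) ≫ μ[G]

lemma lift_cell {X : Over S} (y x : X ⟶ Red.Ga S) (t : X ⟶ T) :
    lift (lift y t) x ≫ cell D = (y ≫ D.pm) * (t ≫ D.i) * (x ≫ D.pp) := by
  rw [cell, lift_map_assoc, lift_map, lift_whiskerRight_assoc, ← Hom.mul_def, ← Hom.mul_def]

lemma exists_cell [IsOpenImmersion (cell D).left] {X : Over S} (p : X ⟶ G)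
    (h : Set.range p.left ⊆ Set.range (cell D).left) :
    ∃ (y x : Γ(X.left, ⊤)) (t : X ⟶ T), p = (D.rk X).M y * (D.rk X).it t * (D.rk X).P x := by
  let l : X ⟶ (Red.Ga S ⊗ T) ⊗ Red.Ga S := Over.homMk (IsOpenImmersion.lift (cell D).left p.left h) (by
    rw [← Over.w (cell D), IsOpenImmersion.lift_fac_assoc, Over.w])
  have hl : l ≫ cell D = p := Over.OverMorphism.ext (IsOpenImmersion.lift_fac _ _ _)
  refine ⟨Red.gaFn (l ≫ fst _ _ ≫ fst _ _), Red.gaFn (l ≫ snd _ _), l ≫ fst _ _ ≫ snd _ _, ?_⟩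
  rw [← D.pm_eq, ← D.pp_eq, ← D.i_eq, ← lift_cell D, ← hl]
  congr 1
  ext <;> simp

lemma cell_inj [IsOpenImmersion (cell D).left] {X : Over S} {y y' x x' : Γ(X.left, ⊤)} {t t' : X ⟶ T}
    (h : (D.rk X).M y * (D.rk X).it t * (D.rk X).P x = (D.rk X).M y' * (D.rk X).it t' * (D.rk X).P x') :
    y = y' ∧ t = t' ∧ x = x' := by
  have : Mono (cell D) := Over.mono_of_mono_left _
  have e : lift (lift (gaPt y) t) (gaPt x) = lift (lift (gaPt y') t') (gaPt x') := by
    rw [← cancel_mono (cell D), lift_cell, lift_cell]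
    exact h
  have e1 := congrArg (· ≫ snd _ _) e
  have e2 := congrArg (· ≫ fst _ _ ≫ fst _ _) e
  have e3 := congrArg (· ≫ fst _ _ ≫ snd _ _) e
  simp only [lift_snd, lift_fst_assoc, lift_fst] at e1 e2 e3
  refine ⟨?_, e3, ?_⟩
  · rw [← gaFn_gaPt (S := S) y, e2, gaFn_gaPt]
  · rw [← gaFn_gaPt (S := S) x, e1, gaFn_gaPt]

lemma range_torus {X : Over S} (t : X ⟶ T) (q : X.left) : (t ≫ D.i).left q ∈ Set.range (cell D).left := by
  have e : t ≫ D.i = lift (lift 1 t) 1 ≫ cell D := by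
    rw [lift_cell, MonObj.one_comp, MonObj.one_comp, _root_.one_mul, _root_.mul_one]
  rw [e]
  exact ⟨(lift (lift 1 t) 1).left q, rfl⟩

lemma eq_torus_of_commute [IsOpenImmersion (cell D).left] {X : Over S} {y x : Γ(X.left, ⊤)} {t : X ⟶ T}
    {v : (Γ(X.left, ⊤))ˣ} (hv : IsUnit ((v : Γ(X.left, ⊤)) ^ 2 - 1))
    (h : ((D.rk X).M y * (D.rk X).it t * (D.rk X).P x) * (D.rk X).h v =
      (D.rk X).h v * ((D.rk X).M y * (D.rk X).it t * (D.rk X).P x)) :
    (D.rk X).M y * (D.rk X).it t * (D.rk X).P x = (D.rk X).it t := by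
  have hR : (D.rk X).h v * ((D.rk X).M y * (D.rk X).it t * (D.rk X).P x) =
      (D.rk X).M ((↑v⁻¹ : Γ(X.left, ⊤)) ^ 2 * y) * (D.rk X).it ((D.rk X).av v * t) * (D.rk X).P x := by
    simp only [← _root_.mul_assoc, Rk1.h_M]
    rw [_root_.mul_assoc ((D.rk X).M _) ((D.rk X).h v), Rk1.h_apply, ← map_mul]
  have hL : ((D.rk X).M y * (D.rk X).it t * (D.rk X).P x) * (D.rk X).h v =
      (D.rk X).M y * (D.rk X).it (t * (D.rk X).av v) * (D.rk X).P ((↑v⁻¹ : Γ(X.left, ⊤)) ^ 2 * x) := by
    rw [_root_.mul_assoc, Rk1.h_apply, Rk1.P_it, map_mul, (D.rk X).χav, ← inv_pow, Units.val_pow_eq_pow_val]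
    simp only [← _root_.mul_assoc]
  rw [hL, hR] at h
  obtain ⟨h1, -, h3⟩ := cell_inj D h
  have key : ∀ a : Γ(X.left, ⊤), (↑v⁻¹ : Γ(X.left, ⊤)) ^ 2 * a = a → a = 0 := fun a ha => by
    refine hv.mul_right_eq_zero.1 ?_
    rw [sub_mul, _root_.one_mul, sub_eq_zero]
    conv_lhs => rw [← ha]
    rw [← _root_.mul_assoc, ← mul_pow, Units.mul_inv, one_pow, _root_.one_mul]
  rw [key y h1.symm, key x h3, Rk1.M_zero, Rk1.P_zero, _root_.one_mul, _root_.mul_one]

lemma coroot_zpow_eq {X : Over S} (z : X ⟶ Red.Gm S) (n : ℤ) :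
    ((z ≫ D.av) ^ n) ≫ D.i = (D.rk X).h (gmU z ^ n) := by
  rw [D.av_eq, D.i_eq, ← map_zpow, Rk1.h_apply]

lemma torus_comm (hT : Red.IsTorus T) {X : Over S} (a b : X ⟶ T) : a * b = b * a :=
  DiagRig.mul_comm_of_splitFpqc (DiagRig.splitFpqc_of_multTypeFT T (DiagRig.multTypeFT_of_torus hT)) a b

section Adj

variable {K : Type u} [Field K] (b : Spec (CommRingCat.of K) ⟶ S)

/-- Transposition of points. -/
def tr (W : Over (Spec (CommRingCat.of K))) (X : Over S) : ((Over.map b).obj W ⟶ X) ≃ (W ⟶ Red.bc b X) :=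
  (Over.mapPullbackAdj b).homEquiv W X

lemma tr_mul {W : Over (Spec (CommRingCat.of K))} (p q : (Over.map b).obj W ⟶ G) :
    tr b W G (p * q) = tr b W G p * tr b W G q := by
  simp only [tr, Adjunction.homEquiv_unit, Functor.map_mul, MonObj.comp_mul]

lemma tr_comp {W : Over (Spec (CommRingCat.of K))} {X Y : Over S} (p : (Over.map b).obj W ⟶ X) (f : X ⟶ Y) :
    tr b W Y (p ≫ f) = tr b W X p ≫ (Over.pullback b).map f :=
  (Over.mapPullbackAdj b).homEquiv_naturality_right p f

lemma tr_pre {W W' : Over (Spec (CommRingCat.of K))} {X : Over S} (h : W' ⟶ W) (p : (Over.map b).obj W ⟶ X) :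
    tr b W' X ((Over.map b).map h ≫ p) = h ≫ tr b W X p :=
  (Over.mapPullbackAdj b).homEquiv_naturality_left h p

lemma tr_left {W : Over (Spec (CommRingCat.of K))} {X : Over S} (p : (Over.map b).obj W ⟶ X) :
    (tr b W X p).left ≫ pullback.fst X.hom b = p.left := by
  simp [tr, Adjunction.homEquiv_unit]
  erw [pullback.lift_fst, ← Category.assoc, pullback.lift_fst]
  simp

end Adj

section Fibre

set_option maxHeartbeats 1000000 in
theorem lands (hG : Red.IsReductive G) (hT : Red.IsTorus T) [Mono D.i] [IsOpenImmersion (cell D).left]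
    (n : ℤ) (hn : n ≠ 0) {X : Over S} (g : X ⟶ G)
    (hg : ∀ (X' : Over S) (y : X' ⟶ X) (z : X' ⟶ Red.Gm S),
      (y ≫ g) * (((z ≫ D.av) ^ n) ≫ D.i) = (((z ≫ D.av) ^ n) ≫ D.i) * (y ≫ g)) (x : X.left) :
    g.left x ∈ Set.range (cell D).left := by
  obtain ⟨hGa, hGs, hGf⟩ := hG
  let K := AlgebraicClosure (X.left.residueField x)
  let a : Spec (CommRingCat.of K) ⟶ X.left := Red.geomPt x
  let s : S := X.hom x
  let g₁ : Spec (CommRingCat.of K) ⟶ Spec (S.residueField s) :=
    Spec.map (CommRingCat.ofHom (algebraMap (X.left.residueField x) K)) ≫ Spec.map (X.hom.residueFieldMap x)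
  let b : Spec (CommRingCat.of K) ⟶ S := g₁ ≫ S.fromSpecResidueField s
  have hab : a ≫ X.hom = b := by
    simp only [a, b, g₁, s, Red.geomPt, Category.assoc, Scheme.Hom.SpecMap_residueFieldMap_fromSpecResidueField]
  have hGaff : IsAffine (Red.bc b G).left := by
    show IsAffine (pullback G.hom b)
    exact isAffine_of_isAffineHom (pullback.snd G.hom b)
  have : Smooth (Red.bc b G).hom := inferInstanceAs (Smooth (pullback.snd _ _))
  have : ConnectedSpace (Red.bc b G).left := by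
    let g₀ : Spec (CommRingCat.of (AlgebraicClosure (S.residueField s))) ⟶ Spec (S.residueField s) :=
      Spec.map (CommRingCat.ofHom (algebraMap (S.residueField s) (AlgebraicClosure (S.residueField s))))
    have h0 : ConnectedSpace ↥(pullback (pullback.snd G.hom (S.fromSpecResidueField s)) g₀) := by
      have : ConnectedSpace ↥(pullback G.hom (g₀ ≫ S.fromSpecResidueField s)) := (hGf s).2.2.1
      let e := pullbackLeftPullbackSndIso G.hom (S.fromSpecResidueField s) g₀
      exact e.inv.surjective.connectedSpace e.inv.continuous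
    have : Surjective g₀ :=
      ⟨fun q => ⟨IsLocalRing.closedPoint _, Subsingleton.elim (α := PrimeSpectrum (S.residueField s)) _ _⟩⟩
    let q := pullback.fst (pullback.snd G.hom (S.fromSpecResidueField s)) g₀
    have : ConnectedSpace (Red.bc (S.fromSpecResidueField s) G).left :=
      q.surjective.connectedSpace q.continuous
    have : LocallyOfFiniteType (Red.bc (S.fromSpecResidueField s) G).hom :=
      inferInstanceAs (LocallyOfFiniteType (pullback.snd _ _))
    have : ConnectedSpace ↥(pullback (pullback.snd G.hom (S.fromSpecResidueField s)) g₁) :=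
      @Borel50.BaseChange.connectedSpace_bc (S.residueField s) _ K _ g₁ (Red.bc (S.fromSpecResidueField s) G)
        (inferInstanceAs (GrpObj ((Over.pullback (S.fromSpecResidueField s)).obj G))) _ _
    let e := pullbackLeftPullbackSndIso G.hom (S.fromSpecResidueField s) g₁
    exact e.hom.surjective.connectedSpace e.hom.continuous
  let W₁ := 𝟙_ (Over (Spec (CommRingCat.of K)))
  let P := (Over.map b).obj W₁
  let φ : (P ⟶ Red.Gm S) → Borel50.Pts.Pt (Red.bc b G) := fun z => tr b W₁ G (((z ≫ D.av) ^ n) ≫ D.i)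
  have hmul : ∀ z w, φ (z * w) = φ z * φ w := fun z w => by
    simp only [φ]
    rw [MonObj.mul_comp, Commute.mul_zpow (show Commute (z ≫ D.av) (w ≫ D.av) from torus_comm hT _ _),
      MonObj.mul_comp, tr_mul]
  have hone : φ 1 = 1 := mul_eq_left.1 ((hmul 1 1).symm.trans (congrArg φ (_root_.one_mul (1 : P ⟶ Red.Gm S))))
  let H : Subgroup (Borel50.Pts.Pt (Red.bc b G)) :=
    { carrier := Set.range φ
      mul_mem' := by rintro _ _ ⟨z, rfl⟩ ⟨w, rfl⟩; exact ⟨z * w, hmul z w⟩
      one_mem' := ⟨1, hone⟩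
      inv_mem' := by
        rintro _ ⟨z, rfl⟩
        exact ⟨z⁻¹, eq_inv_of_mul_eq_one_left (by rw [← hmul, inv_mul_cancel, hone])⟩ }
  let iT₀ := (Over.pullback b).map D.i
  have hle : H ≤ (Borel50.Density.ptHom iT₀).range := by
    rintro _ ⟨z, rfl⟩
    exact ⟨tr b W₁ T ((z ≫ D.av) ^ n), (tr_comp b _ _).symm⟩
  let L : CommRingCat.{u} := CommRingCat.of (LaurentPolynomial K)
  let Yk : Over (Spec (CommRingCat.of K)) :=
    Over.mk (Spec.map (CommRingCat.ofHom (algebraMap K (LaurentPolynomial K))))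
  have hTu : IsUnit ((Scheme.ΓSpecIso L).inv (LaurentPolynomial.T 1 : LaurentPolynomial K)) :=
    (LaurentPolynomial.isUnit_T 1).map (Scheme.ΓSpecIso L).inv.hom
  obtain ⟨zu, hzu⟩ := gm_surjective (S := S) (X := (Over.map b).obj Yk) hTu
  let q' : Yk ⟶ Red.bc b G := tr b Yk G (((zu ≫ D.av) ^ n) ≫ D.i)
  have hφy : ∀ y : W₁ ⟶ Yk, y ≫ q' = φ ((Over.map b).map y ≫ zu) := fun y => by
    show _ = tr b W₁ G _
    rw [← tr_pre, ← Category.assoc, GrpObj.comp_zpow, Category.assoc]
  have himg : (H : Set (Borel50.Pts.Pt (Red.bc b G))) = Set.range (fun y : Borel50.Pts.Pt Yk => y ≫ q') := by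
    refine Set.Subset.antisymm ?_ (by rintro _ ⟨y, rfl⟩; exact ⟨_, (hφy y).symm⟩)
    rintro _ ⟨z, rfl⟩
    let c : Kˣ := Units.map (Scheme.ΓSpecIso (CommRingCat.of K)).hom.hom.toMonoidHom (gmU z)
    let ev : CommRingCat.of (LaurentPolynomial K) ⟶ CommRingCat.of K :=
      CommRingCat.ofHom (LaurentPolynomial.eval₂ (RingHom.id K) c)
    let y : W₁ ⟶ Yk := Over.homMk (Spec.map ev) (by
      show Spec.map ev ≫ Spec.map _ = 𝟙 _
      rw [← Spec.map_comp, ← Spec.map_id]
      congr 1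
      ext r
      simp [ev, LaurentPolynomial.algebraMap_apply])
    refine ⟨y, ?_⟩
    show y ≫ q' = φ z
    rw [hφy]
    congr 1
    refine gm_injective ?_
    rw [gm_comp, hzu]
    have e := congr($(Scheme.ΓSpecIso_inv_naturality ev) (LaurentPolynomial.T 1 : LaurentPolynomial K))
    refine e.symm.trans ?_
    show (Scheme.ΓSpecIso (CommRingCat.of K)).inv (LaurentPolynomial.eval₂ (RingHom.id K) c (LaurentPolynomial.T 1)) = _
    rw [LaurentPolynomial.eval₂_T, zpow_one]
    exact congr($((Scheme.ΓSpecIso (CommRingCat.of K)).hom_inv_id) (Red.gmFn z))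
  have hH : _root_.IsPreconnected (H : Set (Borel50.Pts.Pt (Red.bc b G))) := by
    letI := Borel50.Lin.ptTop Yk
    letI := Borel50.Lin.ptTop (Red.bc b G)
    have : LocallyOfFiniteType Yk.hom :=
      (HasRingHomProperty.Spec_iff (P := @LocallyOfFiniteType)).2
        (RingHom.finiteType_algebraMap.2 inferInstance)
    have : IrreducibleSpace Yk.left := inferInstanceAs (IrreducibleSpace (PrimeSpectrum (LaurentPolynomial K)))
    have : PreconnectedSpace (Borel50.Pts.Pt Yk) := Borel50.Lin.preconnectedSpace_pt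
    rw [himg]
    exact isPreconnected_range (Borel50.Lin.continuous_comp q')
  let U : Set (Red.bc b G).left := (pullback.fst G.hom b) ⁻¹' Set.range (cell D).left
  have hU : IsOpen U := (cell D).left.isOpenEmbedding.isOpen_range.preimage (pullback.fst G.hom b).continuous
  have hfst : ∀ p : P ⟶ G, pullback.fst G.hom b (Borel50.Pts.pt (tr b W₁ G p)) =
      p.left (IsLocalRing.closedPoint K) := fun p => by
    exact congr($(tr_left b p) (IsLocalRing.closedPoint K))
  have hTU : ∀ q ∈ (Borel50.Density.ptHom iT₀).range, Borel50.Pts.pt q ∈ U := by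
    rintro _ ⟨z, rfl⟩
    obtain ⟨t, rfl⟩ := (tr b W₁ T).surjective z
    have e : Borel50.Density.ptHom iT₀ (tr b W₁ T t) = tr b W₁ G (t ≫ D.i) := (tr_comp b _ _).symm
    rw [e]
    have h' : pullback.fst G.hom b (Borel50.Pts.pt (tr b W₁ G (t ≫ D.i))) ∈ Set.range (cell D).left := by
      rw [hfst]; exact range_torus D t _
    exact h'
  have hcell : ∀ q ∈ Subgroup.centralizer (H : Set (Borel50.Pts.Pt (Red.bc b G))),
      Borel50.Pts.pt q ∈ U → q ∈ (Borel50.Density.ptHom iT₀).range := by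
    intro q hq hqU
    obtain ⟨p, rfl⟩ := (tr b W₁ G).surjective q
    have hp : Set.range p.left ⊆ Set.range (cell D).left := by
      rintro _ ⟨w, rfl⟩
      rw [show w = (IsLocalRing.closedPoint K : Spec (CommRingCat.of K)) from
        Subsingleton.elim (α := PrimeSpectrum K) _ _, ← hfst]
      exact hqU
    obtain ⟨y, c, t, rfl⟩ := exists_cell D p hp
    classical
    obtain ⟨r, hr⟩ := Infinite.exists_notMem_finset
      (insert (0 : K) (Polynomial.nthRoots (2 * n.natAbs) (1 : K)).toFinset)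
    rw [Finset.mem_insert, not_or, Multiset.mem_toFinset,
      Polynomial.mem_nthRoots (by positivity [Int.natAbs_pos.2 hn])] at hr
    let u : (Γ(P.left, ⊤))ˣ := Units.map (Scheme.ΓSpecIso (CommRingCat.of K)).inv.hom.toMonoidHom (Units.mk0 r hr.1)
    have hv : IsUnit (((u ^ n : (Γ(P.left, ⊤))ˣ) : Γ(P.left, ⊤)) ^ 2 - 1) := by
      have h0 : ((Units.mk0 r hr.1 ^ n : Kˣ) : K) ^ 2 - 1 ≠ 0 := by
        rw [Units.val_zpow_eq_zpow_val, Units.val_mk0, sub_ne_zero, ← zpow_natCast, ← zpow_mul]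
        rcases Int.natAbs_eq n with e | e <;> rw [e]
        · rw [← Nat.cast_mul, zpow_natCast, _root_.mul_comm]; exact hr.2
        · rw [neg_mul, zpow_neg, ← Nat.cast_mul, zpow_natCast, ne_eq, inv_eq_one, _root_.mul_comm]
          exact hr.2
      have := (isUnit_iff_ne_zero.2 h0).map (Scheme.ΓSpecIso (CommRingCat.of K)).inv.hom
      rw [map_sub, map_pow, map_one] at this
      rw [show u ^ n = Units.map (Scheme.ΓSpecIso (CommRingCat.of K)).inv.hom.toMonoidHom (Units.mk0 r hr.1 ^ n) from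
        (map_zpow _ _ _).symm]
      exact this
    have hcm := Subgroup.mem_centralizer_iff.1 hq (φ (gmPt u)) ⟨_, rfl⟩
    have hgu : gmU (gmPt (S := S) u) = u := Units.ext (gmFn_gmPt u)
    change tr b W₁ G _ * tr b W₁ G _ = tr b W₁ G _ * tr b W₁ G _ at hcm
    rw [← tr_mul, ← tr_mul, coroot_zpow_eq, hgu] at hcm
    rw [eq_torus_of_commute D hv ((tr b W₁ G).injective hcm).symm]
    exact ⟨tr b W₁ T t, (tr_comp b _ _).symm⟩
  let a₀ : P ⟶ X := Over.homMk a (by rw [hab]; exact (Category.id_comp b).symm)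
  have : IsMonHom iT₀ := inferInstance
  have : Mono iT₀ := inferInstance
  obtain ⟨z, hz⟩ := mem_range_of_commute iT₀ (AbSch51.TorusToProper.isTorus_bc b hT) H hH hle U hU hTU hcell
    (g := tr b W₁ G (a₀ ≫ g)) (Subgroup.mem_centralizer_iff.2 (by
      rintro _ ⟨w, rfl⟩
      show tr b W₁ G _ * _ = _
      rw [← tr_mul, ← tr_mul, hg P a₀ w]))
  have h1 : Borel50.Pts.pt (tr b W₁ G (a₀ ≫ g)) ∈ U := hz ▸ hTU _ ⟨z, rfl⟩
  have h2 : (a₀ ≫ g).left (IsLocalRing.closedPoint K) ∈ Set.range (cell D).left := hfst _ ▸ h1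
  change g.left (a₀.left (IsLocalRing.closedPoint K)) ∈ Set.range (cell D).left at h2
  have hax : a₀.left (IsLocalRing.closedPoint K) = x := by
    have key : ∀ {Z : Scheme.{u}} (h : Z ⟶ Spec (X.left.residueField x)) (w : Z),
        (h ≫ X.left.fromSpecResidueField x) w = x := fun h w => by
      rw [Scheme.Hom.comp_apply]; exact Scheme.fromSpecResidueField_apply x _
    exact key (Spec.map (CommRingCat.ofHom (algebraMap (X.left.residueField x) K))) _
  rwa [hax] at h2

end Fibre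

/-- A finite free covering with a unit whose powers avoid one. -/
theorem exists_unit_cover (X : Scheme.{u}) (n : ℤ) (hn : n ≠ 0) :
    ∃ (Y : Scheme.{u}) (p : Y ⟶ X) (v : (Γ(Y, ⊤))ˣ), Flat p ∧ Surjective p ∧ QuasiCompact p ∧
      IsUnit (((v ^ n : (Γ(Y, ⊤))ˣ) : Γ(Y, ⊤)) ^ 2 - 1) := by
  let R := Γ(X, ⊤)
  let m := 2 * n.natAbs
  have hm : 0 < m := by positivity [Int.natAbs_pos.2 hn]
  let f : Polynomial R := Polynomial.X ^ (m + 1) + (-Polynomial.X + 1)
  have hdeg : (-Polynomial.X + 1 : Polynomial R).degree < (m + 1 : ℕ) := by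
    refine lt_of_le_of_lt (Polynomial.degree_add_le _ _) (max_lt ?_ ?_)
    · rw [Polynomial.degree_neg]
      exact lt_of_le_of_lt Polynomial.degree_X_le (by exact_mod_cast (by omega : 1 < m + 1))
    · exact lt_of_le_of_lt Polynomial.degree_one_le (by exact_mod_cast (by omega : 0 < m + 1))
  have hf : f.Monic := Polynomial.monic_X_pow_add hdeg
  let R' := AdjoinRoot f
  have : Module.Free R R' := hf.free_adjoinRoot
  have : Module.Finite R R' := hf.finite_adjoinRoot
  let φ : R →+* R' := AdjoinRoot.of f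
  have hflat : Flat (Spec.map (CommRingCat.ofHom φ)) :=
    HasRingHomProperty.Spec_iff.mpr (RingHom.flat_algebraMap_iff.mpr inferInstance : (algebraMap R R').Flat)
  have hfin : IsFinite (Spec.map (CommRingCat.ofHom φ)) :=
    (IsFinite.SpecMap_iff _).mpr (RingHom.finite_algebraMap.mpr inferInstance : (algebraMap R R').Finite)
  have hsurj : Surjective (Spec.map (CommRingCat.ofHom φ)) := by
    constructor
    rcases subsingleton_or_nontrivial R with h | h
    · intro a; exact (IsEmpty.false (α := PrimeSpectrum R) a).elim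
    · have hd : f.natDegree = m + 1 := by
        apply Polynomial.natDegree_eq_of_degree_eq_some
        rw [Polynomial.degree_add_eq_left_of_degree_lt (by rwa [Polynomial.degree_X_pow]), Polynomial.degree_X_pow]
      have : Nontrivial R' := nontrivial_of_ne _ _
        ((AdjoinRoot.powerBasis' hf).basis.ne_zero ⟨0, by rw [AdjoinRoot.powerBasis'_dim, hd]; omega⟩)
      exact fun a => PrimeSpectrum.comap_surjective_of_faithfullyFlat (B := R') a
  let Y := pullback X.toSpecΓ (Spec.map (CommRingCat.ofHom φ))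
  let p : Y ⟶ X := pullback.fst _ _
  let g : CommRingCat.of R' ⟶ Γ(Y, ⊤) :=
    (Scheme.ΓSpecIso (CommRingCat.of R')).inv ≫ (pullback.snd X.toSpecΓ (Spec.map (CommRingCat.ofHom φ))).appTop
  have key : AdjoinRoot.root f ^ (m + 1) + (-AdjoinRoot.root f + 1) = 0 := by
    have := AdjoinRoot.eval₂_root f
    simpa [f, Polynomial.eval₂_add] using this
  have hu : IsUnit (AdjoinRoot.root f) :=
    IsUnit.of_mul_eq_one (1 - AdjoinRoot.root f ^ m) (by linear_combination (-1 : R') * key)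
  have hu' : IsUnit (AdjoinRoot.root f ^ m - 1) :=
    IsUnit.of_mul_eq_one (-AdjoinRoot.root f) (by linear_combination (-1 : R') * key)
  let v : (Γ(Y, ⊤))ˣ := Units.map g.hom.toMonoidHom hu.unit
  refine ⟨Y, p, v, inferInstance, inferInstance, inferInstance, ?_⟩
  have h1 : IsUnit ((v : Γ(Y, ⊤)) ^ m - 1) := by
    have := hu'.map g.hom
    rwa [map_sub, map_pow, map_one] at this
  rcases Int.natAbs_eq n with e | e <;> rw [e]
  · rw [zpow_natCast, Units.val_pow_eq_pow_val, ← pow_mul, _root_.mul_comm]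
    exact h1
  · rw [zpow_neg, zpow_natCast, ← Units.val_pow_eq_pow_val, inv_pow, ← pow_mul, _root_.mul_comm]
    set w := v ^ m with hw
    have h2 : ((w⁻¹ : (Γ(Y, ⊤))ˣ) : Γ(Y, ⊤)) - 1 = -(↑w⁻¹ * ((w : Γ(Y, ⊤)) - 1)) := by
      rw [mul_sub, Units.inv_mul, _root_.mul_one, neg_sub]
    rw [h2]
    refine (w⁻¹.isUnit.mul ?_).neg
    rw [hw, Units.val_pow_eq_pow_val]
    exact h1

/-- The centraliser of a multiple of the coroot is the torus. -/
theorem centralizer (hG : Red.IsReductive G) (hT : Red.IsTorus T) [Mono D.i] [IsOpenImmersion (cell D).left]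
    (n : ℤ) (hn : n ≠ 0) {X : Over S} (g : X ⟶ G) :
    (∀ (X' : Over S) (y : X' ⟶ X) (z : X' ⟶ Red.Gm S),
      (y ≫ g) * (((z ≫ D.av) ^ n) ≫ D.i) = (((z ≫ D.av) ^ n) ≫ D.i) * (y ≫ g)) ↔
      ∃ t : X ⟶ T, t ≫ D.i = g := by
  constructor
  · intro hg
    obtain ⟨y, x, t, e⟩ := exists_cell D g (by rintro _ ⟨q, rfl⟩; exact lands D hG hT n hn g hg q)
    refine ⟨t, ?_⟩
    obtain ⟨Y, p, v, _, _, _, hv⟩ := exists_unit_cover X.left n hn
    let Y' : Over S := Over.mk (p ≫ X.hom)
    let pY : Y' ⟶ X := Over.homMk p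
    have : Epi pY := by
      have : Epi p := Flat.epi_of_flat_of_surjective p
      have : Epi pY.left := this
      exact Over.epi_of_epi_left pY
    rw [← cancel_epi pY, ← Category.assoc, D.i_eq]
    have h := hg Y' pY (gmPt v)
    have hgu : gmU (gmPt (S := S) (X := Y') v) = v := Units.ext (gmFn_gmPt (X := Y') v)
    rw [coroot_zpow_eq, hgu, e] at h
    simp only [MonObj.comp_mul, Sys.comp_M, Sys.comp_P] at h
    rw [show pY ≫ (D.rk X).it t = (D.rk Y').it (pY ≫ t) from (Category.assoc _ _ _).symm] at h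
    rw [e]
    simp only [MonObj.comp_mul, Sys.comp_M, Sys.comp_P]
    rw [show pY ≫ (D.rk X).it t = (D.rk Y').it (pY ≫ t) from (Category.assoc _ _ _).symm]
    exact (eq_torus_of_commute D hv h).symm
  · rintro ⟨t, rfl⟩ X' y z
    rw [← Category.assoc, ← MonObj.mul_comp, ← MonObj.mul_comp, torus_comm hT]

end Groth.Agent.Cor85
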