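import Groth.Agent.RedPts.RankOne
import Groth.Agent.DiagRig.MultBC
import Groth.Agent.DiagRig.TorusBasic
import Mathlib.RingTheory.Polynomial.Basic

/-!
# Big cells and lines over affine bases
-/

set_option autoImplicit false
universe u

open CategoryTheory MonoidalCategory CartesianMonoidalCategory MonObj GrpObj AlgebraicGeometry Limits
open Groth.Agent.RedPts

noncomputable section

namespace Groth.Agent.Cor85.Weight

variable {S : Scheme.{u}}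

/-- A big cell with torus weights. -/
structure Cel (S : Scheme.{u}) (G T : Over S) [GrpObj G] [GrpObj T] where
  i : T ⟶ G
  α : T ⟶ Red.Gm S
  pp : Red.Ga S ⟶ G
  pm : Red.Ga S ⟶ G
  [hi : IsMonHom i]
  [hα : IsMonHom α]
  [hp : IsMonHom pp]
  [hm : IsMonHom pm]
  hpp : ∀ (X : Over S) (t : X ⟶ T) (x : X ⟶ Red.Ga S), ∃ x' : X ⟶ Red.Ga S,
      x' ≫ pp = (t ≫ i) * (x ≫ pp) * (t ≫ i)⁻¹ ∧ Red.gaFn x' = Red.gmFn (t ≫ α) * Red.gaFn x
  hpm : ∀ (X : Over S) (t : X ⟶ T) (y : X ⟶ Red.Ga S), ∃ y' : X ⟶ Red.Ga S,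
      y' ≫ pm = (t ≫ i) * (y ≫ pm) * (t ≫ i)⁻¹ ∧ Red.gaFn y' * Red.gmFn (t ≫ α) = Red.gaFn y
  hT : Red.IsTorus T
  open_cell : IsOpenImmersion (((pm ⊗ₘ i) ⊗ₘ pp) ≫ (μ[G] ▷ G) ≫ μ[G]).left

attribute [local instance] Cel.hi Cel.hα Cel.hp Cel.hm

namespace Cel

variable {G T : Over S} [GrpObj G] [GrpObj T] (C : Cel S G T)

/-- The cell map. -/
abbrev map : (Red.Ga S ⊗ T) ⊗ Red.Ga S ⟶ G := ((C.pm ⊗ₘ C.i) ⊗ₘ C.pp) ≫ (μ[G] ▷ G) ≫ μ[G]

/-- A point of the cell. -/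
def pt {X : Over S} (y : Γ(X.left, ⊤)) (t : X ⟶ T) (x : Γ(X.left, ⊤)) : X ⟶ G :=
  (gaPt y ≫ C.pm) * (t ≫ C.i) * (gaPt x ≫ C.pp)

lemma lift_map {X : Over S} (y x : X ⟶ Red.Ga S) (t : X ⟶ T) :
    lift (lift y t) x ≫ C.map = (y ≫ C.pm) * (t ≫ C.i) * (x ≫ C.pp) := by
  rw [map, lift_map_assoc, CartesianMonoidalCategory.lift_map, lift_whiskerRight_assoc, ← Hom.mul_def, ← Hom.mul_def]

lemma exists_pt {X : Over S} (p : X ⟶ G) (h : Set.range p.left ⊆ Set.range C.map.left) :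
    ∃ y t x, p = C.pt y t x := by
  have := C.open_cell
  let l : X ⟶ (Red.Ga S ⊗ T) ⊗ Red.Ga S := Over.homMk (IsOpenImmersion.lift C.map.left p.left h) (by
    rw [← Over.w C.map, IsOpenImmersion.lift_fac_assoc, Over.w])
  have hl : l ≫ C.map = p := Over.OverMorphism.ext (IsOpenImmersion.lift_fac _ _ _)
  refine ⟨Red.gaFn (l ≫ fst _ _ ≫ fst _ _), l ≫ fst _ _ ≫ snd _ _, Red.gaFn (l ≫ snd _ _), ?_⟩
  rw [pt, gaPt_gaFn, gaPt_gaFn, ← lift_map, ← hl]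
  congr 1
  ext <;> simp

lemma pt_inj {X : Over S} {y y' x x' : Γ(X.left, ⊤)} {t t' : X ⟶ T} (h : C.pt y t x = C.pt y' t' x') :
    y = y' ∧ t = t' ∧ x = x' := by
  have := C.open_cell
  have : Mono C.map := Over.mono_of_mono_left _
  have e : lift (lift (gaPt y) t) (gaPt x) = lift (lift (gaPt y') t') (gaPt x') := by
    rw [← cancel_mono C.map, lift_map, lift_map]
    exact h
  have e1 := congrArg (· ≫ snd _ _) e
  have e2 := congrArg (· ≫ fst _ _ ≫ fst _ _) e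
  have e3 := congrArg (· ≫ fst _ _ ≫ snd _ _) e
  simp only [lift_snd, lift_fst_assoc, lift_fst] at e1 e2 e3
  refine ⟨?_, e3, ?_⟩
  · rw [← gaFn_gaPt (S := S) y, e2, gaFn_gaPt]
  · rw [← gaFn_gaPt (S := S) x, e1, gaFn_gaPt]

lemma pt_mem {X : Over S} (y x : Γ(X.left, ⊤)) (t : X ⟶ T) (w : X.left) :
    (C.pt y t x).left w ∈ Set.range C.map.left := by
  rw [pt, ← lift_map]
  exact ⟨(lift (lift (gaPt y) t) (gaPt x)).left w, rfl⟩

lemma comp_pt {X Y : Over S} (h : Y ⟶ X) (y x : Γ(X.left, ⊤)) (t : X ⟶ T) :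
    h ≫ C.pt y t x = C.pt (h.left.appTop y) (h ≫ t) (h.left.appTop x) := by
  simp only [pt, MonObj.comp_mul, ← Category.assoc, gaPt_comp]

lemma gaPt_zero_comp {X H : Over S} [GrpObj H] (f : Red.Ga S ⟶ H) [IsMonHom f] :
    (gaPt (0 : Γ(X.left, ⊤)) : X ⟶ Red.Ga S) ≫ f = 1 := by
  have e : ((gaPt (0 : Γ(X.left, ⊤)) : X ⟶ Red.Ga S) ≫ f) * ((gaPt (0 : Γ(X.left, ⊤)) : X ⟶ Red.Ga S) ≫ f) =
      (gaPt (0 : Γ(X.left, ⊤)) : X ⟶ Red.Ga S) ≫ f := by
    conv_rhs => rw [← add_zero (0 : Γ(X.left, ⊤)), gaPt_add, MonObj.mul_comp]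
  exact mul_eq_left.mp e

lemma pt_one {X : Over S} : C.pt (0 : Γ(X.left, ⊤)) 1 0 = 1 := by
  simp [pt, gaPt_zero_comp, MonObj.one_comp]

include C in
lemma torus_comm {X : Over S} (a b : X ⟶ T) : a * b = b * a :=
  DiagRig.mul_comm_of_splitFpqc (DiagRig.splitFpqc_of_multTypeFT T (DiagRig.multTypeFT_of_torus C.hT)) a b

lemma conj_pt {X : Over S} (s : X ⟶ T) (y x : Γ(X.left, ⊤)) (t : X ⟶ T) :
    (s ≫ C.i) * C.pt y t x * (s ≫ C.i)⁻¹ =
      C.pt ((↑(gmU (s ≫ C.α))⁻¹ : Γ(X.left, ⊤)) * y) t ((gmU (s ≫ C.α) : Γ(X.left, ⊤)) * x) := by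
  obtain ⟨y', hy, hy'⟩ := C.hpm X s (gaPt y)
  obtain ⟨x', hx, hx'⟩ := C.hpp X s (gaPt x)
  rw [gaFn_gaPt] at hy' hx'
  have ey : gaPt ((↑(gmU (s ≫ C.α))⁻¹ : Γ(X.left, ⊤)) * y) = y' := ga_injective (by
    rw [gaFn_gaPt, ← hy', ← gmU_val, _root_.mul_comm (Red.gaFn y'), Units.inv_mul_cancel_left])
  have ex' : gaPt ((gmU (s ≫ C.α) : Γ(X.left, ⊤)) * x) = x' := ga_injective (by
    rw [gaFn_gaPt, hx', gmU_val])
  have et : (s ≫ C.i) * (t ≫ C.i) * (s ≫ C.i)⁻¹ = t ≫ C.i := by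
    rw [← MonObj.mul_comp, ← GrpObj.inv_comp, ← MonObj.mul_comp, C.torus_comm s t, mul_inv_cancel_right]
  simp only [pt]
  rw [ey, ex', hy, hx]
  conv_rhs => rw [← et]
  group

end Cel

/-! ### Lines over affine bases -/

/-- An affine object over `S`. -/
abbrev obj {R : CommRingCat.{u}} (b : Spec R ⟶ S) : Over S := Over.mk b

/-- The structure of the line. -/
abbrev lineHom {R : CommRingCat.{u}} (b : Spec R ⟶ S) : Spec (CommRingCat.of (Polynomial R)) ⟶ S :=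
  Spec.map (CommRingCat.ofHom (Polynomial.C : R →+* Polynomial R)) ≫ b

/-- The functions on `Spec R`. -/
def fn (R : CommRingCat.{u}) : R →+* Γ(Spec R, ⊤) := (Scheme.ΓSpecIso R).inv.hom

lemma fn_bijective (R : CommRingCat.{u}) : Function.Bijective (fn R) :=
  ConcreteCategory.bijective_of_isIso (Scheme.ΓSpecIso R).inv

/-- The morphism of objects given by a ring map. -/
def mor {R R' : CommRingCat.{u}} {b : Spec R ⟶ S} {b' : Spec R' ⟶ S} (φ : R ⟶ R') (h : Spec.map φ ≫ b = b') :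
    obj b' ⟶ obj b :=
  Over.homMk (Spec.map φ) h

lemma mor_appTop {R R' : CommRingCat.{u}} {b : Spec R ⟶ S} {b' : Spec R' ⟶ S} (φ : R ⟶ R') (h : Spec.map φ ≫ b = b')
    (r : R) : (mor φ h).left.appTop (fn R r) = fn R' (φ r) :=
  (congr($(Scheme.ΓSpecIso_inv_naturality φ) r)).symm

lemma gaPt_mor {R R' : CommRingCat.{u}} {b : Spec R ⟶ S} {b' : Spec R' ⟶ S} (φ : R ⟶ R') (h : Spec.map φ ≫ b = b')
    (r : R) : mor φ h ≫ gaPt (S := S) (fn R r) = gaPt (fn R' (φ r)) := by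
  rw [gaPt_comp]
  exact congrArg gaPt (mor_appTop φ h r)

/-- The point of the line with value `r`. -/
def evPt {R : CommRingCat.{u}} (b : Spec R ⟶ S) (r : R) : obj b ⟶ obj (lineHom b) :=
  mor (CommRingCat.ofHom (Polynomial.evalRingHom r)) (by
    rw [lineHom, ← Category.assoc, ← Spec.map_comp]
    have : CommRingCat.ofHom (Polynomial.C : R →+* Polynomial R) ≫ CommRingCat.ofHom (Polynomial.evalRingHom r) = 𝟙 R := by
      ext a
      exact Polynomial.eval_C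
    rw [this]
    erw [Spec.map_id, Category.id_comp])

/-- The map of lines over a ring map. -/
def lineMor {R R' : CommRingCat.{u}} {b : Spec R ⟶ S} {b' : Spec R' ⟶ S} (φ : R ⟶ R') (h : Spec.map φ ≫ b = b') :
    obj (lineHom b') ⟶ obj (lineHom b) :=
  mor (CommRingCat.ofHom (Polynomial.mapRingHom φ.hom)) (by
    rw [lineHom, lineHom, ← h, ← Category.assoc, ← Spec.map_comp, ← Category.assoc, ← Spec.map_comp]
    congr 2
    ext a; simp)

/-- Scaling the line. -/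
def scale {R : CommRingCat.{u}} (b : Spec R ⟶ S) (v : R) : obj (lineHom b) ⟶ obj (lineHom b) :=
  mor (CommRingCat.ofHom (Polynomial.compRingHom (Polynomial.C v * Polynomial.X))) (by
    rw [lineHom, ← Category.assoc, ← Spec.map_comp]
    congr 2
    ext a; simp)

/-- The projection of the line. -/
def proj {R : CommRingCat.{u}} (b : Spec R ⟶ S) : obj (lineHom b) ⟶ obj b :=
  mor (CommRingCat.ofHom (Polynomial.C : R →+* Polynomial R)) rfl

end Groth.Agent.Cor85.Weight
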