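import Groth.Agent.Cor85.Core
import Groth.Agent.DiagRig.MultProp

/-!
# The weight lemma
-/

set_option autoImplicit false
universe u

open CategoryTheory MonoidalCategory CartesianMonoidalCategory MonObj GrpObj AlgebraicGeometry Limits
open Groth.Agent.RedPts

noncomputable section

namespace Groth.Agent.Cor85.Weight

attribute [local instance] Cel.hi Cel.hα Cel.hp Cel.hm

variable {S : Scheme.{u}} {G T : Over S} [GrpObj G] [GrpObj T]

lemma Cel.pt_zero_one (C : Cel S G T) {X : Over S} (x : Γ(X.left, ⊤)) :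
    C.pt 0 1 x = gaPt x ≫ C.pp := by
  simp [Cel.pt, Cel.gaPt_zero_comp, MonObj.one_comp]

variable {C : Cel S G T} {Q : Over S} [GrpObj Q] {j : Q ⟶ T} {q : ℕ} {p : Red.Ga S ⟶ G}
variable (hw : Wtd C Q j q p)
include hw

/-- The homomorphism on the universal point of the line. -/
theorem line_formula {R : CommRingCat.{u}} (b : Spec R ⟶ S) :
    ∃ c : R, gaPt (fn (CommRingCat.of (Polynomial R)) Polynomial.X) ≫ p =
      (gaPt (fn (CommRingCat.of (Polynomial R)) (Polynomial.C c * Polynomial.X ^ q)) :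
        obj (lineHom b) ⟶ Red.Ga S) ≫ C.pp := by
  obtain ⟨ya, τ, za, hℓ⟩ := exists_coord hw
    (gaPt (fn (CommRingCat.of (Polynomial R)) Polynomial.X) : obj (lineHom b) ⟶ Red.Ga S)
  obtain ⟨A, rfl⟩ := (fn_bijective (CommRingCat.of (Polynomial R))).2 ya
  obtain ⟨B, rfl⟩ := (fn_bijective (CommRingCat.of (Polynomial R))).2 za
  have key : ∀ (R' : CommRingCat.{u}) (b' : Spec R' ⟶ S) (φ : R ⟶ R') (hb : Spec.map φ ≫ b = b')
      (t : obj b' ⟶ Q) (v : R'), fn R' v = Red.gmFn (t ≫ j ≫ C.α) →
      (Polynomial.C (v ^ q) * (A.map φ.hom).comp (Polynomial.C v * Polynomial.X) =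
          Polynomial.C (v ^ 0) * A.map φ.hom) ∧
        (Polynomial.C (v ^ 0) * (B.map φ.hom).comp (Polynomial.C v * Polynomial.X) =
          Polynomial.C (v ^ q) * B.map φ.hom) ∧
        scale b' v ≫ lineMor φ hb ≫ τ = lineMor φ hb ≫ τ := by
    intro R' b' φ hb t v hv
    let R'' := CommRingCat.of (Polynomial R')
    have e0 : lineMor φ hb ≫ gaPt (fn (CommRingCat.of (Polynomial R)) Polynomial.X) ≫ p =
        gaPt (fn R'' Polynomial.X) ≫ p := by
      rw [← Category.assoc, lineMor, gaPt_mor]
      simp [R'']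
    rw [hℓ, Cel.comp_pt, lineMor, mor_appTop, mor_appTop] at e0
    have e2 : scale b' v ≫ (gaPt (fn R'' Polynomial.X) ≫ p) =
        gaPt (fn R'' (Polynomial.C v * Polynomial.X)) ≫ p := by
      rw [← Category.assoc, scale, gaPt_mor]
      simp [R'']
    let s : obj (lineHom b') ⟶ Q := proj b' ≫ t
    have hs : (gmU (s ≫ j ≫ C.α) : Γ((obj (lineHom b')).left, ⊤)) = fn R'' (Polynomial.C v) := by
      rw [gmU_val, Category.assoc, gm_comp, ← hv]
      exact mor_appTop _ _ v
    have e3 := hw.conj _ s (fn R'' Polynomial.X)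
    rw [hs, ← map_mul, ← e2, ← e0, Cel.comp_pt, scale, mor_appTop, mor_appTop, Cel.conj_pt,
      gmU_pow, show (s ≫ j) ≫ C.α = s ≫ j ≫ C.α from Category.assoc _ _ _] at e3
    obtain ⟨ha, ht, hb'⟩ := C.pt_inj e3
    refine ⟨(fn_bijective R'').1 ?_, (fn_bijective R'').1 ?_, ht⟩
    · have h := congrArg (fun z => (↑(gmU (s ≫ j ≫ C.α) ^ q) : Γ((obj (lineHom b')).left, ⊤)) * z) ha
      simp only [Units.mul_inv_cancel_left] at h
      rw [Units.val_pow_eq_pow_val, hs, ← map_pow, ← map_mul, ← Polynomial.C_pow] at h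
      rw [pow_zero, Polynomial.C_1, _root_.one_mul]
      exact h
    · rw [Units.val_pow_eq_pow_val, hs, ← map_pow, ← map_mul, ← Polynomial.C_pow] at hb'
      rw [pow_zero, Polynomial.C_1, _root_.one_mul]
      exact hb'
  have hzero : evPt b 0 ≫ (gaPt (fn (CommRingCat.of (Polynomial R)) Polynomial.X) ≫ p) = C.pt 0 1 0 := by
    rw [← Category.assoc, evPt, gaPt_mor, Cel.pt_one]
    have : (Polynomial.evalRingHom (0 : R)) Polynomial.X = 0 := Polynomial.eval_X
    erw [this]
    rw [map_zero]
    exact p_zero hw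
  rw [hℓ, Cel.comp_pt, evPt, mor_appTop, mor_appTop] at hzero
  obtain ⟨hA0, hτ0, -⟩ := C.pt_inj hzero
  have hA : A = 0 := by
    ext i
    rw [Polynomial.coeff_zero]
    by_cases hi : q + i = 0
    · obtain ⟨rfl, rfl⟩ : q = 0 ∧ i = 0 := by omega
      rw [Polynomial.coeff_zero_eq_eval_zero]
      exact (fn_bijective R).1 (hA0.trans (map_zero _).symm)
    · exact coeff_eq_zero hw b A 0 q (fun R' b' φ hb t v hv => (key R' b' φ hb t v hv).1) hi
  have hB : B = Polynomial.C (B.coeff q) * Polynomial.X ^ q := by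
    ext i
    rw [Polynomial.coeff_C_mul_X_pow]
    split_ifs with h
    · rw [h]
    · exact coeff_eq_zero hw b B q 0 (fun R' b' φ hb t v hv => (key R' b' φ hb t v hv).2.1) (by omega)
  have hτ : τ = 1 := by
    have : IsAffineHom T.hom :=
      DiagRig.multType_isAffineHom T (DiagRig.multTypeFT_of_torus C.hT)
    have : IsAffineHom (pullback.snd T.hom b) := inferInstance
    have : IsAffine (pullback T.hom b) := isAffine_of_isAffineHom (pullback.snd T.hom b)
    let σ : Spec (CommRingCat.of (Polynomial R)) ⟶ pullback T.hom b :=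
      pullback.lift τ.left (proj b).left ((Over.w τ).trans (Over.w (proj b)).symm)
    have hσ : σ = (proj b).left ≫ (evPt b 0).left ≫ σ := by
      apply ext_of_isAffine
      ext z
      obtain ⟨P, hP⟩ := (fn_bijective (CommRingCat.of (Polynomial R))).2 (σ.appTop z)
      have hPc : P = Polynomial.C (P.eval 0) := by
        refine Polynomial.ext fun i => ?_
        rw [Polynomial.coeff_C]
        split_ifs with hi
        · rw [hi, Polynomial.coeff_zero_eq_eval_zero]
        · refine coeff_eq_zero hw b P 0 0 (fun R' b' φ hb t v hv => ?_) (by omega)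
          rw [pow_zero, Polynomial.C_1, _root_.one_mul, _root_.one_mul]
          apply (fn_bijective (CommRingCat.of (Polynomial R'))).1
          have hsq : (scale b' v).left ≫ (lineMor φ hb).left ≫ σ = (lineMor φ hb).left ≫ σ := by
            apply pullback.hom_ext
            · simp only [σ, Category.assoc, pullback.lift_fst]
              exact congrArg CommaMorphism.left (key R' b' φ hb t v hv).2.2
            · simp only [σ, Category.assoc, pullback.lift_snd]
              show Spec.map _ ≫ Spec.map _ ≫ Spec.map _ = Spec.map _ ≫ Spec.map _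
              simp only [← Spec.map_comp]
              congr 1
              ext a
              simp
          have h := congr($(congrArg Scheme.Hom.appTop hsq) z)
          simp only [Scheme.Hom.comp_appTop, ConcreteCategory.comp_apply, ← hP] at h
          rw [lineMor, mor_appTop, scale, mor_appTop] at h
          exact h
      rw [Scheme.Hom.comp_appTop, Scheme.Hom.comp_appTop]
      show σ.appTop z = (proj b).left.appTop ((evPt b 0).left.appTop (σ.appTop z))
      rw [← hP, evPt, mor_appTop, proj, mor_appTop]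
      exact congrArg _ hPc
    have e : τ = proj b ≫ evPt b 0 ≫ τ := by
      ext1
      have h := congrArg (· ≫ pullback.fst T.hom b) hσ
      have hfst : σ ≫ pullback.fst T.hom b = τ.left := pullback.lift_fst _ _ _
      simp only [Category.assoc, hfst] at h
      exact h
    rw [e]
    erw [hτ0]
    exact MonObj.comp_one _
  refine ⟨B.coeff q, ?_⟩
  rw [hℓ, hA, hτ, map_zero, ← hB, Cel.pt_zero_one]

/-- The weight lemma. -/
theorem exists_unique_coeff :
    ∃! ν : 𝟙_ (Over S) ⟶ Red.Ga S, ∀ (X : Over S) (x y : X ⟶ Red.Ga S),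
      Red.gaFn y = Red.gaFn (toUnit X ≫ ν) * Red.gaFn x ^ q → x ≫ p = y ≫ C.pp := by
  obtain ⟨y₀, t₀, ν₀, h₀⟩ := exists_coord hw (gaPt (1 : Γ((𝟙_ (Over S)).left, ⊤)) : _ ⟶ Red.Ga S)
  have haff : ∀ {R : CommRingCat.{u}} (b : Spec R ⟶ S) (f : Γ((obj b).left, ⊤)),
      gaPt f ≫ p = gaPt ((toUnit (obj b)).left.appTop ν₀ * f ^ q) ≫ C.pp := by
    intro R b
    obtain ⟨c, hc⟩ := line_formula hw b
    have hev : ∀ a : R, (gaPt (fn R a) : obj b ⟶ Red.Ga S) ≫ p = gaPt (fn R (c * a ^ q)) ≫ C.pp := by
      intro a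
      have := congrArg (evPt b a ≫ ·) hc
      dsimp only at this
      rw [← Category.assoc, ← Category.assoc, evPt, gaPt_mor, gaPt_mor] at this
      simpa using this
    have h1 : C.pt ((toUnit (obj b)).left.appTop y₀) (toUnit (obj b) ≫ t₀) ((toUnit (obj b)).left.appTop ν₀) =
        C.pt 0 1 (fn R (c * 1 ^ q)) := by
      rw [← Cel.comp_pt, ← h₀, Cel.pt_zero_one, ← hev, ← Category.assoc, gaPt_comp, map_one, map_one]
    have hc' : (toUnit (obj b)).left.appTop ν₀ = fn R c := by
      simpa using (C.pt_inj h1).2.2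
    intro f
    obtain ⟨a, rfl⟩ := (fn_bijective R).2 f
    rw [hev, hc', map_mul, map_pow]
  refine ⟨gaPt ν₀, ?_, ?_⟩
  · intro X x y hy
    apply Over.OverMorphism.ext
    refine X.left.affineCover.hom_ext _ _ fun k => ?_
    rw [← cancel_epi (X.left.affineCover.X k).isoSpec.inv]
    let b := ((X.left.affineCover.X k).isoSpec.inv ≫ X.left.affineCover.f k) ≫ X.hom
    let ψ : obj b ⟶ X := Over.homMk ((X.left.affineCover.X k).isoSpec.inv ≫ X.left.affineCover.f k) rfl
    suffices h : ψ ≫ x ≫ p = ψ ≫ y ≫ C.pp by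
      have := congrArg CommaMorphism.left h
      simp only [ψ, Over.comp_left, Over.homMk_left, Category.assoc] at this
      simpa only [Over.comp_left] using this
    rw [← gaPt_gaFn y, hy, ← Category.assoc, ← gaPt_gaFn x, gaPt_comp, haff, ← Category.assoc,
      gaPt_comp, map_mul, map_pow, gaPt_gaFn]
    have e : ψ.left.appTop (Red.gaFn (toUnit X ≫ gaPt ν₀)) = (toUnit (obj b)).left.appTop ν₀ := by
      rw [← ga_comp, ← Category.assoc, comp_toUnit, gaPt_comp, gaFn_gaPt]
    rw [e]
  · intro ν hν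
    have h := hν _ (gaPt 1) ν (by
      rw [toUnit_unique (toUnit _) (𝟙 _), Category.id_comp, gaFn_gaPt, one_pow, _root_.mul_one])
    rw [h₀, ← gaPt_gaFn ν, ← Cel.pt_zero_one] at h
    rw [← gaPt_gaFn ν, (C.pt_inj h).2.2]

end Groth.Agent.Cor85.Weight
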