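import Groth.Agent.Cor85.WtdTorus
import Groth.Agent.Cor85.WeightLemma

/-!
# Weighted homomorphisms over a subtorus
-/

set_option autoImplicit false
universe u

open CategoryTheory MonoidalCategory CartesianMonoidalCategory MonObj GrpObj AlgebraicGeometry Limits
open Groth.Agent.RedPts

noncomputable section

namespace Groth.Agent.Cor85.Weight

attribute [local instance] Cel.hi Cel.hα Cel.hp Cel.hm
attribute [-instance] Groth.Agent.GrpArtin.grpObjBC CategoryTheory.Hom.commGroup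

variable {S : Scheme.{u}} {G T : Over S} [GrpObj G] [GrpObj T]

/-- Weighted homomorphisms over a subtorus. -/
theorem wtd_of_torus (C : Cel S G T) {Q : Over S} [GrpObj Q] (hQ : Red.IsTorus Q) (j : Q ⟶ T) [IsMonHom j]
    (hj : ∀ s : S, (Over.pullback (Red.geomPt s)).map (j ≫ C.α) ≠ 1) (q : ℕ) (p : Red.Ga S ⟶ G) [IsMonHom p]
    (hp : ∀ (X : Over S) (t : X ⟶ Q) (x x' : X ⟶ Red.Ga S),
      Red.gaFn x' = Red.gmFn (t ≫ j ≫ C.α) * Red.gaFn x →
      x' ≫ p = ((t ≫ j ≫ C.i) ^ q) * (x ≫ p) * ((t ≫ j ≫ C.i) ^ q)⁻¹) :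
    Wtd C Q j q p := by
  have := C.hi
  have := C.hα
  have hpts : ∀ (s : S) (r : ℕ), 0 < r → ∃ t : Over.mk (Red.geomPt s) ⟶ Q, Red.gmFn (t ≫ j ≫ C.α) ^ r ≠ 1 :=
    fun s r hr => exists_value_ne hQ (j ≫ C.α) s (hj s) r hr
  refine ⟨inferInstance, inferInstance, fun X t x => ?_, hpts,
    fun X r hr => exists_cover hQ (j ≫ C.α) r (fun s => hpts s r hr) X⟩
  have e : ((t ≫ j) ^ q) ≫ C.i = (t ≫ j ≫ C.i) ^ q := by
    rw [← Category.assoc]
    exact (MonoidHom.mk' (fun z : X ⟶ T => z ≫ C.i) (fun a b => MonObj.mul_comp a b C.i)).map_pow _ q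
  rw [e]
  exact hp X t (gaPt x) _ (by rw [gaFn_gaPt, gaFn_gaPt, gmU_val])

end Groth.Agent.Cor85.Weight
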