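import Groth.Agent.Cor85.Core
import Groth.Agent.Cor85.Global
import Groth.Agent.DiagRig.MultProp
import Groth.Agent.Borel50.Lin.TorusSch
import Groth.Agent.GrpScheme.CharSplit
import Groth.Agent.AbSch51.TorusToProper

/-!
# Characters of tori: values and covers
-/

set_option autoImplicit false
universe u

open CategoryTheory MonoidalCategory CartesianMonoidalCategory MonObj GrpObj AlgebraicGeometry Limits
open Groth.Agent.RedPts

noncomputable section

namespace Groth.Agent.Cor85.Weight

attribute [-instance] Groth.Agent.GrpArtin.grpObjBC CategoryTheory.Hom.commGroup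

variable {S : Scheme.{u}} {Q : Over S} [GrpObj Q]

lemma gm_one' {X : Over S} : Red.gmFn (1 : X ⟶ Red.Gm S) = 1 := by
  have h := gm_mul (1 : X ⟶ Red.Gm S) 1
  have e : (1 : X ⟶ Red.Gm S) * 1 = 1 := _root_.mul_one (1 : X ⟶ Red.Gm S)
  rw [e] at h
  exact (gm_isUnit _).mul_eq_left.1 h.symm

lemma tr_one {G : Over S} [GrpObj G] {K : Type u} [Field K] (b : Spec (CommRingCat.of K) ⟶ S)
    (W : Over (Spec (CommRingCat.of K))) : tr b W G 1 = 1 :=
  (MonoidHom.mk' (tr b W G) (tr_mul b)).map_one

/-- A nontrivial character of a torus takes on each geometric fibre a value of order not dividing `r`. -/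
theorem exists_value_ne (hQ : Red.IsTorus Q) (β : Q ⟶ Red.Gm S) [IsMonHom β] (s : S)
    (hβ : (Over.pullback (Red.geomPt s)).map β ≠ 1) (r : ℕ) (hr : 0 < r) :
    ∃ t : Over.mk (Red.geomPt s) ⟶ Q, Red.gmFn (t ≫ β) ^ r ≠ 1 := by
  let b := Red.geomPt s
  let K := AlgebraicClosure (S.residueField s)
  let W := Red.bc b Q
  obtain ⟨_, hlft, hint, -⟩ := Borel50.Lin.TorusSch.torus_facts (k := K)
    (AbSch51.TorusToProper.isTorus_bc b hQ : Red.IsTorus W)
  let θ : (Over.map b).obj W ⟶ Q := (tr b W Q).symm (𝟙 W)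
  let f : Γ(W.left, ⊤) := (Red.gmFn (θ ≫ β) :)
  have : Nonempty W.left := hint.nonempty
  have hdom : IsDomain Γ(W.left, ⊤) := inferInstance
  have hfr : f ^ r ≠ 1 := by
    intro hfr
    let κ₀ : K →+* Γ(W.left, ⊤) := W.hom.appTop.hom.comp (fn (CommRingCat.of K))
    letI := κ₀.toAlgebra
    have hi : IsIntegral K f := ⟨Polynomial.X ^ r - Polynomial.C 1, Polynomial.monic_X_pow_sub_C 1 hr.ne', by
      simp [hfr]⟩
    have hdeg : (minpoly K f).degree = 1 :=
      IsAlgClosed.degree_eq_one_of_irreducible K (minpoly.irreducible hi)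
    obtain ⟨c, hc⟩ : f ∈ (algebraMap K Γ(W.left, ⊤)).range := minpoly.degree_eq_one_iff.1 hdeg
    let W₀ : Over (Spec (CommRingCat.of K)) := Over.mk (𝟙 _)
    let e : W₀ ⟶ W := tr b W₀ Q 1
    have he : (Over.map b).map e ≫ θ = 1 := by
      apply (tr b W₀ Q).injective
      rw [tr_pre, Equiv.apply_symm_apply, Category.comp_id]
    have h1 : e.left.appTop f = 1 := by
      have h := gm_comp ((Over.map b).map e) (θ ≫ β)
      rw [← Category.assoc, he] at h
      rw [show (1 : (Over.map b).obj W₀ ⟶ Q) ≫ β = 1 from MonObj.one_comp β] at h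
      rw [gm_one' (X := (Over.map b).obj W₀)] at h
      exact h.symm
    have h2 : e.left.appTop f = fn (CommRingCat.of K) c := by
      rw [← hc]
      show (W.hom.appTop ≫ e.left.appTop) (fn (CommRingCat.of K) c) = _
      rw [← Scheme.Hom.comp_appTop, Over.w e]
      show (Scheme.Hom.appTop (𝟙 (Spec (CommRingCat.of K)))) _ = _
      rw [Scheme.Hom.id_appTop]
      rfl
    have hc1 : c = 1 := (fn_bijective (CommRingCat.of K)).1 (h2.symm.trans (h1.trans (map_one _).symm))
    have hf1 : f = 1 := by rw [← hc, hc1, map_one]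
    apply hβ
    have h3 : θ ≫ β = 1 := gm_injective (hf1.trans (gm_one' (S := S) (X := (Over.map b).obj W)).symm)
    have h4 := tr_comp b θ β
    rw [h3, tr_one, Equiv.apply_symm_apply, Category.id_comp] at h4
    exact h4.symm
  let U := W.left.basicOpen (f ^ r - 1)
  have hU : (U : Set W.left).Nonempty := by
    rw [Set.nonempty_iff_ne_empty]
    intro h
    apply sub_ne_zero.2 hfr
    exact (basicOpen_eq_bot_iff (X := W.left) (U := ⊤) (f ^ r - 1)).1 (TopologicalSpace.Opens.ext h)
  obtain ⟨x, hx⟩ := GrpScheme.CharSplit.exists_pt_mem U.2.isLocallyClosed hU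
  let x' : Over.mk b ⟶ (Over.map b).obj W := Over.homMk x.left (by
    show x.left ≫ W.hom ≫ b = b
    rw [← Category.assoc, Over.w x]
    exact Category.id_comp _)
  refine ⟨x' ≫ θ, fun h => ?_⟩
  rw [Category.assoc, gm_comp] at h
  have h0 : x.left.appTop (f ^ r - 1) = 0 := by
    rw [map_sub, map_pow, map_one]
    exact sub_eq_zero.2 h
  have hmem : IsLocalRing.closedPoint K ∈ x.left ⁻¹ᵁ U := hx
  rw [Scheme.preimage_basicOpen] at hmem
  erw [h0, Scheme.basicOpen_zero] at hmem
  exact hmem

/-- A cover on which the power of a character minus one is a unit. -/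
theorem exists_cover (hQ : Red.IsTorus Q) (β : Q ⟶ Red.Gm S) (r : ℕ)
    (hpts : ∀ s : S, ∃ t : Over.mk (Red.geomPt s) ⟶ Q, Red.gmFn (t ≫ β) ^ r ≠ 1) (X : Over S) :
    ∃ (Y : Over S) (π : Y ⟶ X) (_ : Epi π) (t : Y ⟶ Q), IsUnit (Red.gmFn (t ≫ β) ^ r - 1) := by
  let u : Γ(Q.left, ⊤) := Red.gmFn β ^ r - 1
  let V := Q.left.basicOpen u
  let g := V.ι ≫ Q.hom
  have : Flat Q.hom := DiagRig.multType_flat Q (DiagRig.multTypeFT_of_torus hQ)
  have : Surjective g := ⟨fun s => by
    obtain ⟨t, ht⟩ := hpts s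
    let K := AlgebraicClosure (S.residueField s)
    let z : Spec (CommRingCat.of K) := IsLocalRing.closedPoint K
    have hw : t.left z ∈ V := by
      show z ∈ t.left ⁻¹ᵁ V
      rw [Scheme.preimage_basicOpen, Scheme.basicOpen_of_isUnit]
      · trivial
      · have hne : t.left.appTop u ≠ 0 := by
          rw [map_sub, map_pow, map_one]
          intro h
          apply ht
          rw [gm_comp]
          exact sub_eq_zero.1 h
        obtain ⟨k, hk⟩ := (fn_bijective (CommRingCat.of K)).2 (t.left.appTop u)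
        have hk0 : k ≠ 0 := by
          rintro rfl
          exact hne (hk.symm.trans (map_zero _))
        have := (isUnit_iff_ne_zero.2 hk0).map (fn (CommRingCat.of K))
        rw [hk] at this
        exact this
    refine ⟨⟨t.left z, hw⟩, ?_⟩
    show Q.hom (t.left z) = s
    rw [← Scheme.Hom.comp_apply, Over.w t]
    show (Red.geomPt s) z = s
    rw [Red.geomPt, Scheme.Hom.comp_apply]
    exact Scheme.fromSpecResidueField_apply s _⟩
  have : Flat g := inferInstance
  let π₀ := pullback.fst X.hom g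
  have : Epi π₀ := Flat.epi_of_flat_of_surjective π₀
  let Y : Over S := Over.mk (π₀ ≫ X.hom)
  let π : Y ⟶ X := Over.homMk π₀ rfl
  have : Epi π.left := ‹Epi π₀›
  let t : Y ⟶ Q := Over.homMk (pullback.snd X.hom g ≫ V.ι) (by
    show (pullback.snd X.hom g ≫ V.ι) ≫ Q.hom = π₀ ≫ X.hom
    rw [Category.assoc]
    exact pullback.condition.symm)
  refine ⟨Y, π, Over.epi_of_epi_left π, t, ?_⟩
  rw [gm_comp]
  have hu : IsUnit (V.ι.appTop u) := by
    have h : V.toScheme.basicOpen (V.ι.appTop u) = ⊤ := by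
      erw [← Scheme.preimage_basicOpen]
      exact V.ι_preimage_self
    exact RingedSpace.isUnit_of_isUnit_germ V.toScheme.toRingedSpace ⊤ _ fun x hx =>
      (RingedSpace.mem_basicOpen V.toScheme.toRingedSpace _ x hx).1 (by rw [← h] at hx; exact hx)
  have h := hu.map (pullback.snd X.hom g).appTop.hom
  have e : t.left.appTop u = (pullback.snd X.hom g).appTop (V.ι.appTop u) :=
    congr($(Scheme.Hom.comp_appTop (pullback.snd X.hom g) V.ι) u)
  have h' : IsUnit (t.left.appTop u) := e ▸ h
  rwa [map_sub, map_pow, map_one] at h'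

end Groth.Agent.Cor85.Weight
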